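import Cfsg.Agent.ClassicalGeometry.HermOrthonormal

/-!
# S3509, row `G₂`: hermitian matrices of determinant one (helper393, box U1 of helper876)
-/

set_option autoImplicit false

namespace Cfsg.Agent.H393.G2

open Matrix

theorem exists_PPt {L : Type} [Field L] [Finite L] {q : ℕ} (hq : Nat.card L = q ^ 2) (hq1 : 1 < q) (s : L →+* L)
    (hs : ∀ x, s x = x ^ q) (B : Matrix (Fin 3) (Fin 3) L) (hB : B = (B.map s).transpose) (hd : B.det = 1) :
    ∃ P : Matrix (Fin 3) (Fin 3) L, P.det = 1 ∧ B = P * (P.map s).transpose := by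
  classical
  have := Fintype.ofFinite L
  have hss : ∀ x, s (s x) = x := by
    intro x
    rw [hs, hs, ← pow_mul, ← pow_two, ← hq, Nat.card_eq_fintype_card]
    exact FiniteField.pow_card x
  have hne : s ≠ RingHom.id L := by
    intro h
    have h1 : ∀ x : L, x ^ q = x := fun x => by rw [← hs, h]; rfl
    have h2 : (Finset.univ : Finset L) ⊆ (Polynomial.X ^ q - Polynomial.X : Polynomial L).roots.toFinset := by
      intro x _
      rw [Multiset.mem_toFinset, Polynomial.mem_roots (FiniteField.X_pow_card_sub_X_ne_zero L hq1)]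
      simp [h1 x]
    have h3 := Finset.card_le_card h2
    rw [Finset.card_univ, ← Nat.card_eq_fintype_card, hq] at h3
    have h4 := (Multiset.toFinset_card_le (Polynomial.X ^ q - Polynomial.X : Polynomial L).roots).trans
      (Polynomial.card_roots' _)
    rw [FiniteField.X_pow_card_sub_X_natDegree_eq L hq1] at h4
    nlinarith
  -- the form
  let b : (Fin 3 → L) →ₛₗ[s] (Fin 3 → L) →ₗ[L] L :=
    LinearMap.mk₂'ₛₗ s (RingHom.id L) (fun u v => (fun i => s (u i)) ⬝ᵥ (B *ᵥ v))
      (fun u u' v => by
        rw [← add_dotProduct]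
        congr 1
        funext i
        simp)
      (fun c u v => by
        rw [smul_eq_mul, ← smul_eq_mul, ← smul_dotProduct]
        congr 1
        funext i
        simp)
      (fun u v v' => by rw [Matrix.mulVec_add, dotProduct_add])
      (fun c u v => by rw [Matrix.mulVec_smul, dotProduct_smul]; rfl)
  have hb : ∀ u v, b u v = (fun i => s (u i)) ⬝ᵥ (B *ᵥ v) := fun _ _ => rfl
  have hsd : ∀ u v : Fin 3 → L, s (u ⬝ᵥ v) = (fun i => s (u i)) ⬝ᵥ (fun i => s (v i)) := by
    intro u v
    rw [dotProduct, dotProduct, map_sum]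
    exact Finset.sum_congr rfl fun i _ => map_mul s _ _
  have hS : b.IsSymm := by
    refine ⟨fun u v => ?_⟩
    rw [hb, hb, hsd]
    have h1 : (fun i => s (s (u i))) = u := by funext i; rw [hss]
    have h2 : (fun i => s ((B *ᵥ v) i)) = (B.map s) *ᵥ (fun i => s (v i)) := by
      funext i
      rw [RingHom.map_mulVec]
      rfl
    rw [h1, h2, Matrix.dotProduct_mulVec, ← Matrix.mulVec_transpose, ← hB, dotProduct_comm]
  have hSL : b.SeparatingLeft := by
    intro u hu
    have hu2 : (fun i => s (u i)) ᵥ* B = 0 := by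
      funext j
      have h1 := hu (Pi.single j 1)
      rw [hb, Matrix.dotProduct_mulVec, dotProduct_single_one] at h1
      exact h1
    have h2 : (fun i => s (u i)) = 0 := by
      have h3 := congrArg (fun w => w ᵥ* B⁻¹) hu2
      simp only [Matrix.vecMul_vecMul, Matrix.zero_vecMul] at h3
      rw [Matrix.mul_nonsing_inv B (by rw [hd]; exact isUnit_one), Matrix.vecMul_one] at h3
      exact h3
    funext i
    have h3 := congrFun h2 i
    exact (map_eq_zero s).1 h3
  obtain ⟨v, hv⟩ := ClassicalGeometry.HermOrthonormal.exists_orthonormal_family hne hss b hS hSL 3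
    (by rw [Module.finrank_fin_fun])
  -- the matrix of the basis
  let V : Matrix (Fin 3) (Fin 3) L := Matrix.of fun i k => v k i
  have hV : (V.map s).transpose * B * V = 1 := by
    ext i j
    rw [Matrix.mul_assoc, Matrix.mul_apply]
    have h1 := hv i j
    rw [hb, dotProduct] at h1
    rw [Matrix.one_apply, ← h1]
    refine Finset.sum_congr rfl fun k _ => ?_
    rfl
  have hdV : (V.map s).transpose.det * V.det = 1 := by
    have h1 := congrArg Matrix.det hV
    rw [Matrix.det_mul, Matrix.det_mul, hd, mul_one, Matrix.det_one] at h1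
    exact h1
  have hdV' : IsUnit V.det := IsUnit.of_mul_eq_one _ (by rw [mul_comm]; exact hdV)
  have hmapd : ∀ M : Matrix (Fin 3) (Fin 3) L, (M.map s).det = s M.det := fun M => (RingHom.map_det s M).symm
  have hmapmul : ∀ M N : Matrix (Fin 3) (Fin 3) L, (M * N).map s = M.map s * N.map s := fun M N => Matrix.map_mul
  have hmapone : (1 : Matrix (Fin 3) (Fin 3) L).map s = 1 := Matrix.map_one s (map_zero s) (map_one s)
  have hmapss : ∀ M : Matrix (Fin 3) (Fin 3) L, (M.map s).map s = M := by
    intro M
    ext i j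
    exact hss _
  set P : Matrix (Fin 3) (Fin 3) L := (V⁻¹.map s).transpose with hP
  have hPs : (P.map s).transpose = V⁻¹ := by
    rw [hP, Matrix.transpose_map, Matrix.transpose_transpose, hmapss]
  have hPB : B = P * (P.map s).transpose := by
    rw [hPs]
    have h1 : (V.map s).transpose * (V⁻¹.map s).transpose = 1 := by
      rw [← Matrix.transpose_mul, ← hmapmul, Matrix.nonsing_inv_mul V hdV', hmapone, Matrix.transpose_one]
    have h2 : (V⁻¹.map s).transpose * (V.map s).transpose = 1 := mul_eq_one_comm.1 h1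
    calc B = (P * (V.map s).transpose) * B * (V * V⁻¹) := by
          rw [h2, Matrix.mul_nonsing_inv V hdV', Matrix.one_mul, Matrix.mul_one]
      _ = P * ((V.map s).transpose * B * V) * V⁻¹ := by simp only [Matrix.mul_assoc]
      _ = P * V⁻¹ := by rw [hV, Matrix.mul_one]
  have hδ : P.det * s P.det = 1 := by
    have h1 := congrArg Matrix.det hPB
    have h2 : (P.map s).transpose.det = s P.det := by rw [Matrix.det_transpose, hmapd]
    rw [hd, Matrix.det_mul, h2] at h1
    exact h1.symm
  have hδ0 : P.det ≠ 0 := left_ne_zero_of_mul_eq_one hδ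
  let D : Matrix (Fin 3) (Fin 3) L := Matrix.diagonal ![P.det⁻¹, 1, 1]
  have hDs : D * (D.map s).transpose = 1 := by
    have h1 : (D.map s).transpose = Matrix.diagonal ![s P.det⁻¹, 1, 1] := by
      ext i j
      fin_cases i <;> fin_cases j <;> simp [D]
    rw [h1, Matrix.diagonal_mul_diagonal, ← Matrix.diagonal_one]
    congr 1
    funext i
    fin_cases i
    · show P.det⁻¹ * s P.det⁻¹ = 1
      rw [map_inv₀, ← mul_inv, hδ, inv_one]
    · simp
    · simp
  refine ⟨P * D, ?_, ?_⟩
  · rw [Matrix.det_mul, Matrix.det_diagonal, Fin.prod_univ_three]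
    simp [hδ0]
  · rw [hmapmul, Matrix.transpose_mul, Matrix.mul_assoc, ← Matrix.mul_assoc D, hDs, Matrix.one_mul]
    exact hPB

end Cfsg.Agent.H393.G2
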