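import Cfsg.Agent.GpUn.Row
import Cfsg.Agent.H106.RC.Ari
import Cfsg.Agent.S0283

/-!
# S3509, row `G₂`: facts on `SU₃` (helper393, box U2 of helper876)
-/

set_option autoImplicit false

namespace Cfsg.Agent.H393.G2

open Matrix

theorem mem_SU_iff {L : Type} [Field L] [Finite L] {q : ℕ} (s : L →+* L) (hs : ∀ x, s x = x ^ q)
    (_hss : ∀ x, s (s x) = x) (A : Matrix.SpecialLinearGroup (Fin 3) L) :
    A ∈ Cfsg.SU 3 L q ↔ A.1 * (A.1.map s).transpose = 1 := by
  have key : ∀ u v : Fin 3 → L, Cfsg.hermForm 3 L q (A.1.mulVec u) (A.1.mulVec v) =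
      u ⬝ᵥ ((A.1.transpose * A.1.map s) *ᵥ (fun i => s (v i))) := by
    intro u v
    have h1 : Cfsg.hermForm 3 L q (A.1.mulVec u) (A.1.mulVec v) =
        (A.1.mulVec u) ⬝ᵥ ((A.1.map s) *ᵥ (fun i => s (v i))) := by
      unfold Cfsg.hermForm
      rw [dotProduct]
      refine Finset.sum_congr rfl fun i _ => ?_
      rw [← hs, RingHom.map_mulVec]
      rfl
    rw [h1, ← Matrix.mulVec_mulVec, Matrix.dotProduct_mulVec u, Matrix.vecMul_transpose]
  have key2 : ∀ u v : Fin 3 → L, Cfsg.hermForm 3 L q u v = u ⬝ᵥ (fun i => s (v i)) := by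
    intro u v
    unfold Cfsg.hermForm
    rw [dotProduct]
    exact Finset.sum_congr rfl fun i _ => by rw [hs]
  have h3 : A.1 * (A.1.map s).transpose = 1 ↔ A.1.transpose * A.1.map s = 1 := by
    rw [← Matrix.transpose_eq_one (M := A.1.transpose * A.1.map s), Matrix.transpose_mul, Matrix.transpose_transpose]
    exact mul_eq_one_comm
  rw [h3, LieClassical.HermBasic.mem_SU_iff]
  constructor
  · intro h
    ext i j
    have h4 := h (Pi.single i 1) (Pi.single j 1)
    rw [key, key2] at h4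
    have h5 : (fun k => s ((Pi.single j (1 : L) : Fin 3 → L) k)) = Pi.single j 1 := by
      funext k
      by_cases hk : k = j
      · subst hk; simp
      · simp [hk]
    rw [h5, Matrix.mulVec_single_one, single_one_dotProduct, single_one_dotProduct] at h4
    rw [Matrix.one_apply]
    simp only [Matrix.col_apply] at h4
    rw [h4, Pi.single_apply]
  · intro h u v
    have h4 := key u v
    rw [h, Matrix.one_mulVec, ← key2] at h4
    exact h4

theorem su_facts {L : Type} [Field L] [Finite L] {q : ℕ} (hq : Nat.card L = q ^ 2) (hq3 : 3 ≤ q) {G : Type} [Group G]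
    (φ : G ≃* Cfsg.SU 3 L q) : commutator G = ⊤ ∧ Nontrivial G ∧
      ∃ (S' : Type) (_ : Group S') (_ : Finite S') (π : G →* S'), Function.Surjective π ∧
        π.ker ≤ Subgroup.center G ∧ IsSimpleGroup S' ∧ ¬ IsMulCommutative S' ∧ Cfsg.Agent.H106.RC.Cl S' ∧
        ¬ Cfsg.Agent.H106.RC.Exc S' := by
  have := Fintype.ofFinite L
  have hF : Fintype.card L = q ^ 2 := by rw [← Nat.card_eq_fintype_card]; exact hq
  have hn : ¬ (3 = 3 ∧ q = 2) := by omega
  have hperf : commutator (Cfsg.SU 3 L q) = ⊤ := GpUn.perfect_SU hF le_rfl hn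
  have hsimp : IsSimpleGroup (Cfsg.PSU 3 L q) := S0283.result hF 3 le_rfl hn
  have hcG : commutator G = ⊤ := by
    have h1 : (commutator (Cfsg.SU 3 L q)).map φ.symm.toMonoidHom = commutator G := by
      rw [commutator_def, commutator_def, Subgroup.map_commutator, ← MonoidHom.range_eq_map,
        MonoidHom.range_eq_top.2 φ.symm.surjective]
    rw [← h1, hperf, ← MonoidHom.range_eq_map, MonoidHom.range_eq_top.2 φ.symm.surjective]
  let π : G →* Cfsg.PSU 3 L q := (QuotientGroup.mk' (Subgroup.center (Cfsg.SU 3 L q))).comp φ.toMonoidHom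
  have hπ : Function.Surjective π := (QuotientGroup.mk'_surjective _).comp φ.surjective
  have hntG : Nontrivial G := by
    obtain ⟨x, hx⟩ := exists_ne (1 : Cfsg.PSU 3 L q)
    obtain ⟨g, rfl⟩ := hπ x
    exact ⟨⟨g, 1, fun h => hx (by rw [h, map_one])⟩⟩
  refine ⟨hcG, hntG, Cfsg.PSU 3 L q, inferInstance, inferInstance, π, hπ, ?_, hsimp, ?_, ?_, ?_⟩
  · intro g hg
    have h1 : φ g ∈ Subgroup.center (Cfsg.SU 3 L q) := (QuotientGroup.eq_one_iff _).1 hg
    rw [Subgroup.mem_center_iff] at h1 ⊢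
    intro h
    apply φ.injective
    rw [map_mul, map_mul]
    exact h1 _
  · intro hcomm
    have h1 : (commutator G).map π = commutator (Cfsg.PSU 3 L q) := by
      rw [commutator_def, commutator_def, Subgroup.map_commutator, ← MonoidHom.range_eq_map, MonoidHom.range_eq_top.2 hπ]
    rw [hcG, ← MonoidHom.range_eq_map, MonoidHom.range_eq_top.2 hπ] at h1
    have h2 : commutator (Cfsg.PSU 3 L q) = ⊥ := by
      rw [commutator_def, Subgroup.commutator_eq_bot_iff_le_centralizer]
      intro a _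
      rw [Subgroup.mem_centralizer_iff]
      intro b _
      exact hcomm.is_comm.comm b a
    rw [h2] at h1
    exact top_ne_bot h1
  · exact Or.inr (Or.inr (Or.inl ⟨L, inferInstance, inferInstance, 3, q, hF, le_rfl, hn, ⟨MulEquiv.refl _⟩⟩))
  · exact Cfsg.Agent.H106.RC.psu_not_exc hF le_rfl hn

end Cfsg.Agent.H393.G2
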